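import Mathlib
import Groth.Agent.Lib.Helper6.DCPush.Bij
import Groth.Agent.Lib.Helper6.DCPush.Tel
import Groth.Agent.Lib.Helper3.DCoprod

/-!
# Telescopes against towers in a triangulated category (helper6)

* `cobij_of_subsingleton` / `subsingleton_of_cobij`: for a distinguished triangle `P → P' → Z`,
  `Hom(X[n], Z) = 0` for all `n` iff `Hom(X[n], P) → Hom(X[n], P')` is bijective for all `n`.
* `bij_shift_iff_psi`: for a telescope `a = 1 - τ·shift` on a countable coproduct `Xc` of copies of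
  `X`, precomposition with `a[m]` on `Hom(Xc[m], K)` is the operator `(x_i) ↦ (x_i - τ x_{i+1})`.
* `cobij_iff_psi`: the dual statement for a countable product.
* `bij_iff_subsingleton`: the two combined.
* `isColimit_single_sigma`: `inD(∐ G)` is the coproduct of the `inD(G)` in `D(A)`.
-/

set_option autoImplicit false
set_option linter.unusedSectionVars false
set_option linter.unusedVariables false
set_option linter.style.haveILetI false
universe w w' v v' u u'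
open CategoryTheory CategoryTheory.Limits CategoryTheory.Pretriangulated

namespace Groth.Agent.Lib.Helper6.DCLoc

open Groth.Agent.Lib.Helper6.DCPush

section General

lemma bij_conj {α β : Type*} (e : α → β) (he : Function.Bijective e) (f : α → α) (g : β → β)
    (h : ∀ a, e (f a) = g (e a)) : Function.Bijective f ↔ Function.Bijective g := by
  have h1 : e ∘ f = g ∘ e := funext h
  rw [← Function.Bijective.of_comp_iff' he f, h1, Function.Bijective.of_comp_iff g he]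

variable {𝒟 : Type u} [Category.{v} 𝒟]

/-- postcomposition with `a` is bijective on maps from `X` -/
def CoBij (X : 𝒟) {A B : 𝒟} (a : A ⟶ B) : Prop :=
  Function.Bijective (fun ψ : X ⟶ A => ψ ≫ a)

lemma subsingleton_of_iso_source {A B E : 𝒟} (e : A ≅ B) (h : Subsingleton (A ⟶ E)) :
    Subsingleton (B ⟶ E) :=
  ⟨fun x y => by
    have h1 := h.elim (e.hom ≫ x) (e.hom ≫ y)
    exact (cancel_epi e.hom).1 h1⟩

/-- transport of a colimit cofan along isomorphisms -/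
noncomputable def isColimitCofanOfIso {J : Type*} {X X' : J → 𝒟} {P P' : 𝒟} {g : ∀ j, X j ⟶ P}
    {g' : ∀ j, X' j ⟶ P'} (e : ∀ j, X' j ≅ X j) (eP : P' ≅ P)
    (h : ∀ j, g' j ≫ eP.hom = (e j).hom ≫ g j) (hc : IsColimit (Cofan.mk P' g')) :
    IsColimit (Cofan.mk P g) :=
  Cofan.IsColimit.mk _
    (fun s => eP.inv ≫ Cofan.IsColimit.desc hc (fun j => (e j).hom ≫ s.inj j))
    (fun s j => by
      have h1 : g j ≫ eP.inv = (e j).inv ≫ g' j := by
        rw [← cancel_mono eP.hom, Category.assoc, Iso.inv_hom_id, Category.comp_id,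
          Category.assoc, h, Iso.inv_hom_id_assoc]
      have h2 : g' j ≫ Cofan.IsColimit.desc hc (fun j => (e j).hom ≫ s.inj j) =
          (e j).hom ≫ s.inj j := Cofan.IsColimit.fac hc _ j
      change g j ≫ eP.inv ≫ _ = _
      rw [reassoc_of% h1, h2, Iso.inv_hom_id_assoc])
    (fun s m hm => by
      rw [← cancel_epi eP.hom, Iso.hom_inv_id_assoc]
      refine Cofan.IsColimit.hom_ext hc _ _ (fun j => ?_)
      have h2 : g' j ≫ Cofan.IsColimit.desc hc (fun j => (e j).hom ≫ s.inj j) =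
          (e j).hom ≫ s.inj j := Cofan.IsColimit.fac hc _ j
      change g' j ≫ eP.hom ≫ m = g' j ≫ _
      rw [h2, reassoc_of% (h j)]
      congr 1
      exact hm j)

end General

section Tri

variable {C : Type u} [Category.{v} C] [HasZeroObject C] [HasShift C ℤ] [Preadditive C]
  [∀ n : ℤ, (shiftFunctor C n).Additive] [Pretriangulated C]

/-- if `Hom(X[n], Z) = 0` for all `n` then `Hom(X[n], P) → Hom(X[n], P')` is bijective -/
theorem cobij_of_subsingleton (T : Triangle C) (hT : T ∈ distTriang C) (X : C)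
    (h : ∀ n : ℤ, Subsingleton (X⟦n⟧ ⟶ T.obj₃)) (n : ℤ) : CoBij (X⟦n⟧) T.mor₁ := by
  constructor
  · intro ψ ψ' hψ
    have hψ' : ψ ≫ T.mor₁ = ψ' ≫ T.mor₁ := hψ
    have h0 : (ψ - ψ') ≫ T.invRotate.mor₂ = 0 := by
      show (ψ - ψ') ≫ T.mor₁ = 0
      rw [Preadditive.sub_comp, hψ', sub_self]
    obtain ⟨g, hg⟩ := T.invRotate.coyoneda_exact₂ (inv_rot_of_distTriang T hT) (ψ - ψ') h0
    have hs : Subsingleton (X⟦n⟧ ⟶ T.obj₃⟦(-1 : ℤ)⟧) :=
      (((shiftEquiv C (1 : ℤ)).toAdjunction.homEquiv (X⟦n⟧) T.obj₃).subsingleton_congr).1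
        (subsingleton_of_iso_source ((shiftFunctorAdd' C n 1 (n + 1) rfl).app X) (h (n + 1)))
    have hg0 : g = 0 := hs.elim g 0
    rw [hg0, zero_comp] at hg
    exact sub_eq_zero.1 hg
  · intro z
    have h0 : z ≫ T.mor₂ = 0 := (h n).elim _ _
    obtain ⟨g, hg⟩ := T.coyoneda_exact₂ hT z h0
    exact ⟨g, hg.symm⟩

lemma inj_shift_of_inj {X A B : C} (a : A ⟶ B) (n : ℤ)
    (hinj : ∀ ψ ψ' : X⟦n - 1⟧ ⟶ A, ψ ≫ a = ψ' ≫ a → ψ = ψ')
    (w₁ w₂ : X⟦n⟧ ⟶ A⟦(1 : ℤ)⟧) (hw : w₁ ≫ a⟦(1 : ℤ)⟧' = w₂ ≫ a⟦(1 : ℤ)⟧') : w₁ = w₂ := by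
  let adj := (shiftEquiv C (1 : ℤ)).symm.toAdjunction
  have key : ∀ (B' : C) (b : A ⟶ B') (v : (X⟦n⟧)⟦(-1 : ℤ)⟧ ⟶ A),
      adj.homEquiv (X⟦n⟧) B' (v ≫ b) = adj.homEquiv (X⟦n⟧) A v ≫ b⟦(1 : ℤ)⟧' :=
    fun B' b v => adj.homEquiv_naturality_right v b
  let i : X⟦n - 1⟧ ≅ (X⟦n⟧)⟦(-1 : ℤ)⟧ := (shiftFunctorAdd' C n (-1) (n - 1) (by omega)).app X
  have h1 : (adj.homEquiv (X⟦n⟧) A).symm w₁ ≫ a = (adj.homEquiv (X⟦n⟧) A).symm w₂ ≫ a := by
    apply (adj.homEquiv (X⟦n⟧) B).injective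
    rw [key, key, Equiv.apply_symm_apply, Equiv.apply_symm_apply]
    exact hw
  have h2 : i.hom ≫ (adj.homEquiv (X⟦n⟧) A).symm w₁ = i.hom ≫ (adj.homEquiv (X⟦n⟧) A).symm w₂ := by
    apply hinj
    rw [Category.assoc, Category.assoc]
    exact congrArg (fun t => i.hom ≫ t) h1
  have h3 := (cancel_epi i.hom).1 h2
  exact (adj.homEquiv (X⟦n⟧) A).symm.injective h3

/-- if `Hom(X[n], P) → Hom(X[n], P')` is bijective for all `n` then `Hom(X[n], Z) = 0` -/
theorem subsingleton_of_cobij (T : Triangle C) (hT : T ∈ distTriang C) (X : C)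
    (h : ∀ n : ℤ, CoBij (X⟦n⟧) T.mor₁) (n : ℤ) : Subsingleton (X⟦n⟧ ⟶ T.obj₃) := by
  have hz : ∀ y : X⟦n⟧ ⟶ T.obj₃, y = 0 := by
    intro y
    have h1 : y ≫ T.mor₃ = 0 := by
      apply inj_shift_of_inj T.mor₁ n (fun ψ ψ' hh => (h (n - 1)).1 hh)
      rw [Category.assoc, comp_distTriang_mor_zero₃₁ T hT, comp_zero, zero_comp]
    obtain ⟨z, hz⟩ := T.coyoneda_exact₃ hT y h1
    obtain ⟨ψ, hψ⟩ := (h n).2 z
    have hψ' : ψ ≫ T.mor₁ = z := hψ
    rw [hz, ← hψ', Category.assoc, comp_distTriang_mor_zero₁₂ T hT, comp_zero]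
  exact ⟨fun y y' => by rw [hz y, hz y']⟩

end Tri

section Psi

variable {𝒟 : Type u} [Category.{v} 𝒟] [Preadditive 𝒟]

/-- the operator `(x_i) ↦ (x_i - τ x_{i+1})` -/
def Psi {X K : 𝒟} (τ : X ⟶ X) (x : ℕ → (X ⟶ K)) : ℕ → (X ⟶ K) := fun i => x i - τ ≫ x (i + 1)

/-- the product side -/
theorem cobij_iff_psi {K P : 𝒟} (π : ℕ → (P ⟶ K)) (hP : IsLimit (Fan.mk P π)) (σ : K ⟶ K)
    (Φ : P ⟶ P) (hΦ : ∀ i, Φ ≫ π i = π i - π (i + 1) ≫ σ) {X : 𝒟} (τ : X ⟶ X)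
    (hτ : ∀ x : X ⟶ K, τ ≫ x = x ≫ σ) :
    CoBij X Φ ↔ Function.Bijective (Psi (K := K) τ) := by
  let e : (X ⟶ P) → (ℕ → (X ⟶ K)) := fun ψ i => ψ ≫ π i
  have he : Function.Bijective e := by
    constructor
    · intro ψ ψ' h
      exact Fan.IsLimit.hom_ext hP _ _ (fun i => congrFun h i)
    · intro x
      exact ⟨Fan.IsLimit.lift hP x, funext fun i => Fan.IsLimit.fac hP x i⟩
  refine bij_conj e he (fun ψ => ψ ≫ Φ) (Psi τ) (fun ψ => ?_)
  funext i
  show (ψ ≫ Φ) ≫ π i = ψ ≫ π i - τ ≫ ψ ≫ π (i + 1)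
  rw [Category.assoc, hΦ, Preadditive.comp_sub, hτ, Category.assoc]

variable [HasShift 𝒟 ℤ] [∀ n : ℤ, (shiftFunctor 𝒟 n).Additive]

/-- the coproduct side -/
theorem bij_shift_iff_psi {X Xc : 𝒟} (ι : ℕ → (X ⟶ Xc)) (hC : IsColimit (Cofan.mk Xc ι))
    (τ : X ⟶ X) (a : Xc ⟶ Xc) (ha : ∀ i, ι i ≫ a = ι i - τ ≫ ι (i + 1)) (m : ℤ) (K : 𝒟) :
    Bij (a⟦m⟧') K ↔ Function.Bijective (Psi (K := K) (τ⟦m⟧')) := by
  have hCm : IsColimit (Cofan.mk (Xc⟦m⟧) (fun j => (ι j)⟦m⟧')) :=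
    isColimitCofanMkObjOfIsColimit (shiftFunctor 𝒟 m) _ _ hC
  let e : (Xc⟦m⟧ ⟶ K) → (ℕ → (X⟦m⟧ ⟶ K)) := fun φ i => (ι i)⟦m⟧' ≫ φ
  have he : Function.Bijective e := by
    constructor
    · intro φ φ' h
      exact Cofan.IsColimit.hom_ext hCm _ _ (fun i => congrFun h i)
    · intro x
      exact ⟨Cofan.IsColimit.desc hCm x, funext fun i => Cofan.IsColimit.fac hCm x i⟩
  refine bij_conj e he (fun φ => a⟦m⟧' ≫ φ) (Psi (τ⟦m⟧')) (fun φ => ?_)
  funext i
  show (ι i)⟦m⟧' ≫ a⟦m⟧' ≫ φ = (ι i)⟦m⟧' ≫ φ - τ⟦m⟧' ≫ (ι (i + 1))⟦m⟧' ≫ φ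
  rw [← Category.assoc, ← Functor.map_comp, ha, Functor.map_sub, Functor.map_comp,
    Preadditive.sub_comp, Category.assoc]

end Psi

section Combined

variable {𝒟 : Type u} [Category.{v} 𝒟] [HasZeroObject 𝒟] [HasShift 𝒟 ℤ] [Preadditive 𝒟]
  [∀ n : ℤ, (shiftFunctor 𝒟 n).Additive] [Pretriangulated 𝒟]

/-- telescope on the source against tower on the target -/
theorem bij_iff_subsingleton {X Xc K P Z : 𝒟} (ι : ℕ → (X ⟶ Xc))
    (hC : IsColimit (Cofan.mk Xc ι)) (τ : X ⟶ X) (a : Xc ⟶ Xc)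
    (ha : ∀ i, ι i ≫ a = ι i - τ ≫ ι (i + 1))
    (π : ℕ → (P ⟶ K)) (hP : IsLimit (Fan.mk P π)) (σ : K ⟶ K)
    (Φ : P ⟶ P) (hΦ : ∀ i, Φ ≫ π i = π i - π (i + 1) ≫ σ)
    (hτ : ∀ (m : ℤ) (x : X⟦m⟧ ⟶ K), τ⟦m⟧' ≫ x = x ≫ σ)
    (g : P ⟶ Z) (h' : Z ⟶ P⟦(1 : ℤ)⟧) (hT : Triangle.mk Φ g h' ∈ distTriang 𝒟) :
    (∀ m : ℤ, Bij (a⟦m⟧') K) ↔ (∀ m : ℤ, Subsingleton (X⟦m⟧ ⟶ Z)) := by
  have key : ∀ m : ℤ, Bij (a⟦m⟧') K ↔ CoBij (X⟦m⟧) Φ := fun m =>
    (bij_shift_iff_psi ι hC τ a ha m K).trans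
      (cobij_iff_psi π hP σ Φ hΦ (τ⟦m⟧') (hτ m)).symm
  constructor
  · intro h m
    exact subsingleton_of_cobij (Triangle.mk Φ g h') hT X (fun n => (key n).1 (h n)) m
  · intro h m
    exact (key m).2 (cobij_of_subsingleton (Triangle.mk Φ g h') hT X h m)

end Combined

section Single

open Groth.Agent.Helper3.DCoprod

variable {A : Type u} [Category.{v} A] [Abelian A] [HasDerivedCategory.{w} A]
  [HasColimitsOfShape (Discrete ℕ) A] [HasExactColimitsOfShape (Discrete ℕ) A]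

/-- the termwise coproduct is a coproduct of complexes -/
noncomputable def isColimitCK (K : ℕ → CochainComplex A ℤ) :
    IsColimit (Cofan.mk (cK K) (inK K)) :=
  Cofan.IsColimit.mk _ (fun t => descK (fun j => t.inj j))
    (fun t j => inK_descK _ j)
    (fun t m hm => by
      ext n : 1
      apply Limits.Sigma.hom_ext
      intro j
      have h1 := HomologicalComplex.congr_hom (hm j) n
      have h2 := HomologicalComplex.congr_hom (inK_descK (fun j => t.inj j) j) n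
      exact h1.trans h2.symm)

/-- `inD(∐ G)` is the coproduct of countably many copies of `inD(G)` in `D(A)` -/
theorem nonempty_isColimit_single_sigma (G : A) :
    Nonempty (IsColimit (Cofan.mk ((DerivedCategory.singleFunctor A 0).obj (∐ fun _ : ℕ => G))
      (fun j : ℕ => (DerivedCategory.singleFunctor A 0).map (Sigma.ι (fun _ : ℕ => G) j)))) := by
  let Kc : ℕ → CochainComplex A ℤ := fun _ => (CochainComplex.singleFunctor A 0).obj G
  haveI : PreservesColimitsOfShape (Discrete ℕ) (CochainComplex.singleFunctor A 0) :=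
    inferInstanceAs (PreservesColimitsOfShape (Discrete ℕ)
      (HomologicalComplex.single A (ComplexShape.up ℤ) 0))
  have h1 : IsColimit (Cofan.mk (cK Kc) (inK Kc)) := isColimitCK Kc
  have h2 : IsColimit (Cofan.mk ((CochainComplex.singleFunctor A 0).obj (∐ fun _ : ℕ => G))
      (fun j : ℕ => (CochainComplex.singleFunctor A 0).map (Sigma.ι (fun _ : ℕ => G) j))) :=
    isColimitCofanMkObjOfIsColimit (CochainComplex.singleFunctor A 0) _ _
      (coproductIsCoproduct (fun _ : ℕ => G))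
  let ec : cK Kc ≅ (CochainComplex.singleFunctor A 0).obj (∐ fun _ : ℕ => G) :=
    IsColimit.coconePointUniqueUpToIso h1 h2
  have hec : ∀ j : ℕ, inK Kc j ≫ ec.hom =
      (CochainComplex.singleFunctor A 0).map (Sigma.ι (fun _ : ℕ => G) j) := fun j =>
    IsColimit.comp_coconePointUniqueUpToIso_hom h1 h2 ⟨j⟩
  have hcK := isColimitCofan Kc
  refine ⟨isColimitCofanOfIso
    (fun j => ((DerivedCategory.singleFunctorIsoCompQ A 0).app G).symm)
    (DerivedCategory.Q.mapIso ec ≪≫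
      ((DerivedCategory.singleFunctorIsoCompQ A 0).app (∐ fun _ : ℕ => G)).symm)
    (fun j => ?_) hcK⟩
  have hn := (DerivedCategory.singleFunctorIsoCompQ A 0).inv.naturality
    (Sigma.ι (fun _ : ℕ => G) j)
  dsimp only [Iso.trans_hom, Iso.symm_hom, Functor.mapIso_hom, Iso.app_inv, Iso.app_hom]
  rw [← Category.assoc, ← Functor.map_comp, hec]
  exact hn

end Single

end Groth.Agent.Lib.Helper6.DCLoc
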