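import Mathlib
import Groth.Prelude.Def_DerComp
import Groth.Agent.Lib.Helper3.Bous3
import Groth.Agent.Lib.Helper3.ModGroth
import Groth.Agent.Lib.Helper5.Misc.FreeOn
import Groth.Agent.Lib.Helper5.TorAmp.FlatAcyc
import Groth.Agent.Lib.Helper4.QSLocal2

/-!
# The modules `j_{V!} O_V` over a covering generate `D(O)` (helper6)

If `T ∈ D(O)` is such that every object `U` has a covering sieve on whose members `V` all groups
`Hom(j_{V!}O_V, T[n])` vanish, then `T = 0`.  Proof: represent `T` by a K-injective complex `I`; the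
vanishing says that cocycles of `I(V)` are coboundaries, so `I` is locally exact, hence acyclic.
-/

set_option backward.isDefEq.respectTransparency.types false
set_option autoImplicit false
set_option linter.unusedSectionVars false
set_option linter.unusedVariables false
set_option linter.style.haveILetI false
universe u
open CategoryTheory CategoryTheory.Limits Opposite
attribute [local instance] HasDerivedCategory.standard

namespace Groth.Agent.Lib.Helper6.DCLoc

open Groth.Agent.Lib.Helper5.FreeOn CochainComplex HomComplex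

variable {C : Type u} [SmallCategory C] {J : GrothendieckTopology C} {O : Sheaf J CommRingCat.{u}}

/-- a monomorphism of sheaves of modules is injective on sections -/
lemma app_injective_of_mono {A B : ModSite.Mod O} (f : A ⟶ B) [Mono f] (U : C)
    (x y : A.val.obj (op U)) (h : (f.val.app (op U)).hom x = (f.val.app (op U)).hom y) :
    x = y := by
  have h1 : Mono ((SheafOfModules.toSheaf (ModSite.ringSh O)).map f) := inferInstance
  have h2 : Mono ((sheafToPresheaf _ _).map
      ((SheafOfModules.toSheaf (ModSite.ringSh O)).map f)) := inferInstance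
  have h3 := (NatTrans.mono_iff_mono_app _).mp h2 (op U)
  exact (AddCommGrpCat.mono_iff_injective _).mp h3 h

/-- a locally surjective morphism of sheaves of modules is an epimorphism -/
lemma epi_of_locally_surjective {M N : ModSite.Mod O} (φ : M ⟶ N)
    (h : ∀ (V : C) (s : N.val.obj (op V)), ∃ S ∈ J V, ∀ ⦃W : C⦄ (g : W ⟶ V), S g →
      ∃ t : M.val.obj (op W), (φ.val.app (op W)).hom t = (N.val.map g.op).hom s) : Epi φ := by
  haveI : (SheafOfModules.toSheaf.{u} (ModSite.ringSh O)).Faithful := inferInstance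
  apply (SheafOfModules.toSheaf.{u} (ModSite.ringSh O)).epi_of_epi_map
  rw [← Sheaf.isLocallySurjective_iff_epi' AddCommGrpCat.{u}]
  constructor
  intro V s
  obtain ⟨S, hS, hl⟩ := h V s
  refine J.superset_covering ?_ hS
  intro W g hg
  obtain ⟨t, ht⟩ := hl g hg
  exact ⟨t, ht⟩

section KInj

variable {A : Type*} [Category A] [Abelian A] [HasDerivedCategory A]

/-- cocycles into a K-injective complex are coboundaries when the `Hom` in `D(A)` vanishes -/
lemma mem_coboundaries_of_subsingleton {G' Y : CochainComplex A ℤ} [Y.IsKInjective] (n : ℤ)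
    (hs : Subsingleton (DerivedCategory.Q.obj G' ⟶ DerivedCategory.Q.obj (Y⟦n⟧)))
    (x : Cocycle G' Y n) : x ∈ coboundaries G' Y n := by
  rw [← CohomologyClass.toHom_mk_eq_zero_iff]
  apply (CochainComplex.IsKInjective.Qh_map_bijective _ (Y⟦n⟧)).injective
  exact hs.elim _ _

end KInj

set_option maxHeartbeats 1600000 in
/-- if every object has a covering sieve on whose members `V` all `Hom(j_{V!}O_V, T[n])` vanish,
then `T = 0` -/
theorem isZero_of_locally_orthogonal (T : DerivedCategory (ModSite.Mod O))
    (h : ∀ U : C, ∃ S ∈ J U, ∀ ⦃V : C⦄ (g : V ⟶ U), S g → ∀ n : ℤ,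
      Subsingleton (SiteCmp.inD O (ModSite.freeOn O V) ⟶ T⟦n⟧)) : IsZero T := by
  obtain ⟨I, hI, -, ⟨e⟩⟩ := Groth.Agent.Helper3.Bous3.exists_repr T
  haveI := hI
  refine IsZero.of_iso ?_ e.symm
  rw [Groth.Agent.Helper5.FlatAcyc.isZero_Q_iff_acyclic]
  intro n
  rw [HomologicalComplex.exactAt_iff' I (n - 1) n (n + 1) (by simp) (by simp),
    ShortComplex.exact_iff_epi_kernel_lift]
  apply epi_of_locally_surjective
  intro V x
  obtain ⟨S, hS, hSV⟩ := h V
  refine ⟨S, hS, fun W g hg => ?_⟩
  -- the cocycle over `W`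
  let xW : (kernel (I.d n (n + 1))).val.obj (op W) :=
    ((kernel (I.d n (n + 1))).val.map g.op).hom x
  let z : (I.X n).val.obj (op W) := ((kernel.ι (I.d n (n + 1))).val.app (op W)).hom xW
  have hz : ((I.d n (n + 1)).val.app (op W)).hom z = 0 := by
    have h0 : ((kernel.ι (I.d n (n + 1)) ≫ I.d n (n + 1)).val.app (op W)).hom xW = 0 := by
      rw [kernel.condition]
      rfl
    exact h0
  let ζ : ModSite.freeOn O W ⟶ I.X n := (freeOnHomEquiv O W (I.X n)).symm z
  have hζ : ζ ≫ I.d n (n + 1) = 0 := by
    apply (freeOnHomEquiv O W _).injective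
    rw [freeOnHomEquiv_naturality, Equiv.apply_symm_apply,
      Groth.Agent.Lib.Helper4.QSLocal2.freeOnHomEquiv_zero]
    exact hz
  let x' : Cocycle ((CochainComplex.singleFunctor (ModSite.Mod O) 0).obj (ModSite.freeOn O W)) I n :=
    Cocycle.fromSingleMk ζ (zero_add n) (n + 1) rfl hζ
  have hsub : Subsingleton (DerivedCategory.Q.obj
      ((CochainComplex.singleFunctor (ModSite.Mod O) 0).obj (ModSite.freeOn O W)) ⟶
      DerivedCategory.Q.obj (I⟦n⟧)) := by
    have h1 := hSV g hg n
    exact ((Iso.homCongr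
      ((DerivedCategory.singleFunctorIsoCompQ (ModSite.Mod O) 0).app (ModSite.freeOn O W))
      ((CategoryTheory.shiftFunctor (DerivedCategory (ModSite.Mod O)) n).mapIso e.symm ≪≫
        ((DerivedCategory.Q (C := ModSite.Mod O)).commShiftIso n).symm.app I)).subsingleton_congr).1
      h1
  have hx' : x' ∈ coboundaries _ _ n := mem_coboundaries_of_subsingleton n hsub x'
  rw [mem_coboundaries_iff x' (n - 1) (by omega)] at hx'
  obtain ⟨β, hβ⟩ := hx'
  obtain ⟨b, rfl⟩ := Cochain.fromSingleMk_surjective β (n - 1) (zero_add (n - 1))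
  have hβ' : Cochain.fromSingleMk (b ≫ I.d (n - 1) n) (zero_add n) =
      Cochain.fromSingleMk ζ (zero_add n) := by
    rw [← Cochain.δ_fromSingleMk b (zero_add (n - 1)) n n (zero_add n)]
    exact hβ
  have hb : b ≫ I.d (n - 1) n = ζ := by
    have h2 := congrArg (Cochain.fromSingleEquiv (zero_add n)) hβ'
    rwa [Cochain.fromSingleEquiv_fromSingleMk, Cochain.fromSingleEquiv_fromSingleMk] at h2
  let t : (I.X (n - 1)).val.obj (op W) := freeOnHomEquiv O W (I.X (n - 1)) b
  have ht : ((I.d (n - 1) n).val.app (op W)).hom t = z := by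
    have h3 := freeOnHomEquiv_naturality O W b (I.d (n - 1) n)
    rw [hb] at h3
    have h4 : freeOnHomEquiv O W (I.X n) ζ = z := Equiv.apply_symm_apply _ _
    rw [h4] at h3
    exact h3.symm
  refine ⟨t, ?_⟩
  apply app_injective_of_mono (kernel.ι (I.d n (n + 1))) W
  have e1 : ((kernel.lift (I.d n (n + 1)) (I.d (n - 1) n) (I.d_comp_d _ _ _) ≫
      kernel.ι (I.d n (n + 1))).val.app (op W)).hom t =
      ((I.d (n - 1) n).val.app (op W)).hom t := by
    rw [kernel.lift_ι]
  exact e1.trans ht

end Groth.Agent.Lib.Helper6.DCLoc
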