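import Mathlib
import Groth.Prelude.Def_DerComp
import Groth.Agent.Lib.Helper6.DCPush.Bij
import Groth.Agent.Lib.Helper6.DCPush.Tel
import Groth.Agent.Lib.Helper5.Misc.RestrExact
import Groth.Agent.Lib.Helper5.Misc.DerAdj

/-!
# Telescopes on a localised site `C/W` and on `C` (helper6)

`j_{W!}(j_{y!} O_y) = j_{Y!} O_Y` for `y = (Y → W)`, compatibly with multiplication by sections;
through the derived adjunction `j_{W!} ⊣ (-)|_W` the telescope conditions for `K|_W` on `C/W` and
for `K` on `C` correspond.
-/

set_option backward.isDefEq.respectTransparency.types false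
set_option autoImplicit false
set_option linter.unusedSectionVars false
set_option linter.unusedVariables false
set_option linter.style.haveILetI false
universe u
open CategoryTheory CategoryTheory.Limits Opposite
attribute [local instance] HasDerivedCategory.standard

namespace Groth.Agent.Lib.Helper6.DCLoc

open Groth.Agent.Lib.Helper5.FreeOn Groth.Agent.Lib.Helper6.DCPush

variable {C : Type u} [SmallCategory C] {J : GrothendieckTopology C} (O : Sheaf J CommRingCat.{u})

/-- multiplication by a global section on `j_{U!}O_U` is `tG` of its component -/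
lemma tG_eq_smulEnd (s : DerComp.GSec O) (U : C) :
    tG O U (s.1 U) = DerComp.smulEnd s (ModSite.freeOn O U) := by
  apply (freeOnHomEquiv O U _).injective
  have h1 := freeOnHomEquiv_tG O U (s.1 U) _ (𝟙 (ModSite.freeOn O U))
  rw [Category.comp_id] at h1
  have h2 := freeOnHomEquiv_naturality O U (𝟙 (ModSite.freeOn O U))
    (DerComp.smulEnd s (ModSite.freeOn O U))
  rw [Category.id_comp] at h2
  rw [h1, h2]
  rfl

variable (W : C)

/-- sections of `F|_W` over `y` are sections of `F` over `y.left` -/
def restrSect (F : ModSite.Mod O) (y : Over W) :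
    (((ModSite.restr O W).obj F).val.obj (op y)) ≃ (F.val.obj (op y.left)) := Equiv.refl _

/-- `Hom(j_{W!} j_{y!}O_y, F) = Hom(j_{Y!}O_Y, F)` -/
noncomputable def ΨW (y : Over W) (F : ModSite.Mod O) :
    ((ModSite.extZero O W).obj (ModSite.freeOn (O.over W) y) ⟶ F) ≃
      (ModSite.freeOn O y.left ⟶ F) :=
  ((ModSite.extZeroAdj O W).homEquiv (ModSite.freeOn (O.over W) y) F).trans
    ((freeOnHomEquiv (O.over W) y ((ModSite.restr O W).obj F)).trans
      ((restrSect O W F y).trans (freeOnHomEquiv O y.left F).symm))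

lemma ΨW_nat (y : Over W) {F F' : ModSite.Mod O}
    (φ : (ModSite.extZero O W).obj (ModSite.freeOn (O.over W) y) ⟶ F) (h : F ⟶ F') :
    ΨW O W y F' (φ ≫ h) = ΨW O W y F φ ≫ h := by
  unfold ΨW
  simp only [Equiv.trans_apply]
  rw [Adjunction.homEquiv_naturality_right, freeOnHomEquiv_naturality]
  exact freeOnHomEquiv_symm_naturality O y.left _ h

lemma ΨW_tG (y : Over W) (r : O.obj.obj (op y.left)) (F : ModSite.Mod O)
    (φ : (ModSite.extZero O W).obj (ModSite.freeOn (O.over W) y) ⟶ F) :
    ΨW O W y F ((ModSite.extZero O W).map (tG (O.over W) y r) ≫ φ) =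
      tG O y.left r ≫ ΨW O W y F φ := by
  unfold ΨW
  simp only [Equiv.trans_apply]
  rw [Adjunction.homEquiv_naturality_left, freeOnHomEquiv_tG]
  apply (freeOnHomEquiv O y.left F).injective
  rw [Equiv.apply_symm_apply, freeOnHomEquiv_tG, Equiv.apply_symm_apply]
  rfl

/-- `j_{W!}(j_{y!} O_y) ≅ j_{Y!} O_Y` -/
noncomputable def overFreeIso (y : Over W) :
    (ModSite.extZero O W).obj (ModSite.freeOn (O.over W) y) ≅ ModSite.freeOn O y.left :=
  isoOfHomEquiv (ΨW O W y) (fun φ h => ΨW_nat O W y φ h)

lemma ΨW_overFreeIso_hom (y : Over W) : ΨW O W y _ (overFreeIso O W y).hom = 𝟙 _ :=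
  Equiv.apply_symm_apply _ _

lemma over_tG_comm (y : Over W) (r : O.obj.obj (op y.left)) :
    (ModSite.extZero O W).map (tG (O.over W) y r) ≫ (overFreeIso O W y).hom =
      (overFreeIso O W y).hom ≫ tG O y.left r := by
  apply (ΨW O W y _).injective
  rw [ΨW_tG, ΨW_nat, ΨW_overFreeIso_hom, Category.comp_id, Category.id_comp]

instance preservesColimits_extZero : PreservesColimitsOfSize.{0, 0} (ModSite.extZero O W) :=
  (ModSite.extZeroAdj O W).leftAdjoint_preservesColimits

/-- `j_{W!}(∐ j_{y!} O_y) ≅ ∐ j_{Y!} O_Y` -/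
noncomputable def overTelIso (y : Over W) :
    (ModSite.extZero O W).obj (∐ fun _ : ℕ => ModSite.freeOn (O.over W) y) ≅
      ∐ fun _ : ℕ => ModSite.freeOn O y.left :=
  (asIso (sigmaComparison (ModSite.extZero O W)
    (fun _ : ℕ => ModSite.freeOn (O.over W) y))).symm ≪≫ sigIso (overFreeIso O W y)

lemma overTel_comm (y : Over W) (r : O.obj.obj (op y.left)) :
    (ModSite.extZero O W).map (tel (tG (O.over W) y r)) ≫ (overTelIso O W y).hom =
      (overTelIso O W y).hom ≫ tel (tG O y.left r) := by
  have h1 := map_tel (ModSite.extZero O W) (tG (O.over W) y r)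
  have h2 := tel_natural ((ModSite.extZero O W).map (tG (O.over W) y r)) (tG O y.left r)
    (overFreeIso O W y).hom (over_tG_comm O W y r)
  have h3 : (ModSite.extZero O W).map (tel (tG (O.over W) y r)) ≫
      inv (sigmaComparison (ModSite.extZero O W) (fun _ : ℕ => ModSite.freeOn (O.over W) y)) =
      inv (sigmaComparison (ModSite.extZero O W) (fun _ : ℕ => ModSite.freeOn (O.over W) y)) ≫
        tel ((ModSite.extZero O W).map (tG (O.over W) y r)) := by
    rw [IsIso.eq_inv_comp, ← Category.assoc, h1, Category.assoc, IsIso.hom_inv_id,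
      Category.comp_id]
  show (ModSite.extZero O W).map (tel (tG (O.over W) y r)) ≫
      (inv (sigmaComparison (ModSite.extZero O W) (fun _ : ℕ => ModSite.freeOn (O.over W) y)) ≫
        sigMap (overFreeIso O W y).hom) =
    (inv (sigmaComparison (ModSite.extZero O W) (fun _ : ℕ => ModSite.freeOn (O.over W) y)) ≫
        sigMap (overFreeIso O W y).hom) ≫ tel (tG O y.left r)
  rw [← Category.assoc, h3, Category.assoc, h2, Category.assoc]

/-- the derived adjunction `j_{W!} ⊣ (-)|_W` -/
noncomputable def adjD :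
    (ModSite.extZero O W).mapDerivedCategory ⊣ (ModSite.restr O W).mapDerivedCategory :=
  Groth.Agent.Lib.Helper5.DerAdj.mapDerivedCategoryAdj (ModSite.extZeroAdj O W)

/-- moving a shifted single morphism across the derived adjunction `j_{W!} ⊣ (-)|_W` -/
theorem bij_restr_iff {A B : ModSite.Mod (O.over W)} (a' : A ⟶ B)
    (K : DerivedCategory (ModSite.Mod O)) (m : ℤ) :
    Bij (((DerivedCategory.singleFunctor (ModSite.Mod (O.over W)) 0).map a')⟦m⟧')
      ((ModSite.restr O W).mapDerivedCategory.obj K) ↔
    Bij (((DerivedCategory.singleFunctor (ModSite.Mod O) 0).map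
      ((ModSite.extZero O W).map a'))⟦m⟧') K := by
  have h0 := bij_adj (adjD O W)
    (((DerivedCategory.singleFunctor (ModSite.Mod (O.over W)) 0).map a')⟦m⟧') K
  have h1 := bij_natIso_comp ((ModSite.extZero O W).mapDerivedCategory.commShiftIso m)
    (𝟭 (DerivedCategory (ModSite.Mod O)))
    ((DerivedCategory.singleFunctor (ModSite.Mod (O.over W)) 0).map a') K
  have h2 := bij_natIso_comp ((ModSite.extZero O W).mapDerivedCategorySingleFunctor 0)
    (shiftFunctor (DerivedCategory (ModSite.Mod O)) m) a' K
  exact h0.trans (h1.trans h2)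

/-- the telescope condition for `K|_W` at `y = (Y → W)` is the telescope condition for `K` at `Y` -/
theorem bij_over_iff (K : DerivedCategory (ModSite.Mod O)) (y : Over W)
    (r : O.obj.obj (op y.left)) (m : ℤ) :
    Bij (((DerivedCategory.singleFunctor (ModSite.Mod (O.over W)) 0).map
      (tel (tG (O.over W) y r)))⟦m⟧') ((ModSite.restr O W).mapDerivedCategory.obj K) ↔
    Bij (((DerivedCategory.singleFunctor (ModSite.Mod O) 0).map
      (tel (tG O y.left r)))⟦m⟧') K := by
  refine (bij_restr_iff O W (tel (tG (O.over W) y r)) K m).trans ?_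
  exact bij_map_iso (DerivedCategory.singleFunctor (ModSite.Mod O) 0 ⋙
    shiftFunctor (DerivedCategory (ModSite.Mod O)) m) _ _ (overTelIso O W y)
    (overTel_comm O W y r) K

end Groth.Agent.Lib.Helper6.DCLoc
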