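import Mathlib
import Groth.Prelude.Def_DerComp
import Groth.Agent.Lib.Helper6.DCLoc.Gen
import Groth.Agent.Lib.Helper6.DCLoc.Cov
import Groth.Agent.Lib.Helper6.DCLoc.Over
import Groth.Agent.Lib.Helper3.KInjProd
import Groth.Agent.Lib.Helper5.Misc.KFlatSite

/-!
# Vanishing of `Hom(j_{U!} O_{U,f}, K[n])` is local on `U` (helper6)

`locality`: if `R` is a covering sieve of `W`, `f ∈ O(W)` and `Hom(j_{Y!} O_{Y,f|Y}, K[n]) = 0` for
all `Y → W` in `R` and all `n`, then `Hom(j_{W!} O_{W,f}, K[n]) = 0` for all `n`.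
-/

set_option backward.isDefEq.respectTransparency.types false
set_option autoImplicit false
set_option linter.unusedSectionVars false
set_option linter.unusedVariables false
set_option linter.style.haveILetI false
universe u
open CategoryTheory CategoryTheory.Limits CategoryTheory.Pretriangulated Opposite
attribute [local instance] HasDerivedCategory.standard

namespace Groth.Agent.Lib.Helper6.DCLoc

open Groth.Agent.Lib.Helper6.DCPush Groth.Agent.Helper3.KInjProd

variable {C : Type u} [SmallCategory C] {J : GrothendieckTopology C} (O : Sheaf J CommRingCat.{u})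

/-- the tower object `T(K, s)`: it detects the telescope conditions for all modules `G` -/
theorem exists_tower (s : DerComp.GSec O) (K : DerivedCategory (ModSite.Mod O)) :
    ∃ Z : DerivedCategory (ModSite.Mod O), ∀ G : ModSite.Mod O,
      (∀ m : ℤ, Bij (((DerivedCategory.singleFunctor (ModSite.Mod O) 0).map
        (tel (DerComp.smulEnd s G)))⟦m⟧') K) ↔
      (∀ m : ℤ, Subsingleton
        (((DerivedCategory.singleFunctor (ModSite.Mod O) 0).obj G)⟦m⟧ ⟶ Z)) := by
  obtain ⟨I, hI, -, ⟨e⟩⟩ := Groth.Agent.Helper3.Bous3.exists_repr K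
  haveI : ∀ _ : ℕ, I.IsKInjective := fun _ => hI
  let P : DerivedCategory (ModSite.Mod O) := DerivedCategory.Q.obj (pK (fun _ : ℕ => I))
  let π : ℕ → (P ⟶ K) := fun j => DerivedCategory.Q.map (prK (fun _ : ℕ => I) j) ≫ e.hom
  have hl : ∀ (Y : DerivedCategory (ModSite.Mod O)) (φ : ℕ → (Y ⟶ K)),
      ∃ ψ : Y ⟶ P, ∀ j, ψ ≫ π j = φ j := by
    intro Y φ
    obtain ⟨ψ, hψ⟩ := exists_lift (fun _ : ℕ => I) Y (fun j => φ j ≫ e.inv)
    refine ⟨ψ, fun j => ?_⟩
    show ψ ≫ DerivedCategory.Q.map (prK (fun _ : ℕ => I) j) ≫ e.hom = φ j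
    rw [← Category.assoc, hψ j, Category.assoc, Iso.inv_hom_id, Category.comp_id]
  have hP : IsLimit (Fan.mk P π) :=
    Fan.IsLimit.mk _ (fun t => (hl t.pt (fun j => t.proj j)).choose)
      (fun t j => (hl t.pt (fun j => t.proj j)).choose_spec j)
      (fun t m hm => by
        apply eq_of_prK (fun _ : ℕ => I)
        intro j
        have h1 : m ≫ π j = t.proj j := hm j
        have h2 := (hl t.pt (fun j => t.proj j)).choose_spec j
        have h3 : m ≫ π j = (hl t.pt (fun j => t.proj j)).choose ≫ π j := h1.trans h2.symm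
        have h4 : (m ≫ DerivedCategory.Q.map (prK (fun _ : ℕ => I) j)) ≫ e.hom =
            ((hl t.pt (fun j => t.proj j)).choose ≫
              DerivedCategory.Q.map (prK (fun _ : ℕ => I) j)) ≫ e.hom := by
          rw [Category.assoc, Category.assoc]
          exact h3
        exact (cancel_mono e.hom).1 h4)
  let σ : K ⟶ K := s • 𝟙 K
  let Φ : P ⟶ P := Fan.IsLimit.lift hP (fun i => π i - π (i + 1) ≫ σ)
  have hΦ : ∀ i, Φ ≫ π i = π i - π (i + 1) ≫ σ := fun i =>
    Fan.IsLimit.fac hP (fun i => π i - π (i + 1) ≫ σ) i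
  obtain ⟨Z, g, h', hT⟩ := distinguished_cocone_triangle Φ
  refine ⟨Z, fun G => ?_⟩
  obtain ⟨hC⟩ := nonempty_isColimit_single_sigma (A := ModSite.Mod O) G
  have ha : ∀ i : ℕ,
      (DerivedCategory.singleFunctor (ModSite.Mod O) 0).map (Sigma.ι (fun _ : ℕ => G) i) ≫
        (DerivedCategory.singleFunctor (ModSite.Mod O) 0).map (tel (DerComp.smulEnd s G)) =
      (DerivedCategory.singleFunctor (ModSite.Mod O) 0).map (Sigma.ι (fun _ : ℕ => G) i) -
        (DerivedCategory.singleFunctor (ModSite.Mod O) 0).map (DerComp.smulEnd s G) ≫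
          (DerivedCategory.singleFunctor (ModSite.Mod O) 0).map
            (Sigma.ι (fun _ : ℕ => G) (i + 1)) := by
    intro i
    rw [← Functor.map_comp, ι_tel, Functor.map_sub, Functor.map_comp]
  have hs1 : DerComp.smulEnd s G = s • 𝟙 G := by
    rw [DerComp.smul_def, Category.comp_id]
  have hτ : ∀ (m : ℤ) (x : ((DerivedCategory.singleFunctor (ModSite.Mod O) 0).obj G)⟦m⟧ ⟶ K),
      ((DerivedCategory.singleFunctor (ModSite.Mod O) 0).map (DerComp.smulEnd s G))⟦m⟧' ≫ x =
        x ≫ σ := by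
    intro m x
    show _ = x ≫ (s • 𝟙 K)
    rw [hs1, Functor.map_smul, CategoryTheory.Functor.map_id, Functor.map_smul,
      CategoryTheory.Functor.map_id, Linear.smul_comp, Category.id_comp, Linear.comp_smul,
      Category.comp_id]
  exact bij_iff_subsingleton
    (fun j => (DerivedCategory.singleFunctor (ModSite.Mod O) 0).map (Sigma.ι (fun _ : ℕ => G) j))
    hC ((DerivedCategory.singleFunctor (ModSite.Mod O) 0).map (DerComp.smulEnd s G))
    ((DerivedCategory.singleFunctor (ModSite.Mod O) 0).map (tel (DerComp.smulEnd s G))) ha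
    π hP σ Φ hΦ hτ g h' hT

/-- the telescope condition for a global section is local -/
theorem local_global (s : DerComp.GSec O) (K : DerivedCategory (ModSite.Mod O))
    (h : ∀ U : C, ∃ S ∈ J U, ∀ ⦃V : C⦄ (g : V ⟶ U), S g → ∀ m : ℤ,
      Bij (((DerivedCategory.singleFunctor (ModSite.Mod O) 0).map
        (tel (DerComp.smulEnd s (ModSite.freeOn O V))))⟦m⟧') K) (U : C) (m : ℤ) :
    Bij (((DerivedCategory.singleFunctor (ModSite.Mod O) 0).map
      (tel (DerComp.smulEnd s (ModSite.freeOn O U))))⟦m⟧') K := by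
  obtain ⟨Z, hZ⟩ := exists_tower O s K
  have hz : IsZero Z := by
    apply isZero_of_locally_orthogonal
    intro U'
    obtain ⟨S, hS, hSV⟩ := h U'
    refine ⟨S, hS, fun V g hg n => ?_⟩
    exact (Groth.Agent.Helper3.Bous3.subsingleton_shift_hom_iff' _ _ n).1
      (((hZ (ModSite.freeOn O V)).1 (hSV g hg)) (-n))
  exact (hZ (ModSite.freeOn O U)).2 (fun m => ⟨fun x y => hz.eq_of_tgt x y⟩) m

/-- vanishing of `Hom(j_{Y!} O_{Y,r}, K[n])` for all `n` gives the telescope condition -/
lemma bij_of_vanishing (K : DerivedCategory (ModSite.Mod O)) (Y : C) (r : O.obj.obj (op Y))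
    (h : ∀ n : ℤ, Subsingleton (SiteCmp.inD O
      ((ModSite.extZero O Y).obj (DerComp.awayOver O Y r)) ⟶ K⟦n⟧)) (m : ℤ) :
    Bij (((DerivedCategory.singleFunctor (ModSite.Mod O) 0).map (tel (tG O Y r)))⟦m⟧') K := by
  obtain ⟨p, w, hS⟩ := exists_ses O Y r
  have h1 : ∀ k : ℤ, Bij ((DerivedCategory.singleFunctor (ModSite.Mod O) 0).map
      (tel (tG O Y r))) (K⟦k⟧) :=
    fun k => bij_of_subsingleton hS.singleTriangle hS.singleTriangle_distinguished K h k
  exact (bij_adj (shiftEquiv (DerivedCategory (ModSite.Mod O)) m).toAdjunction _ K).1 (h1 (-m))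

/-- the telescope condition gives vanishing of `Hom(j_{Y!} O_{Y,r}, K[n])` for all `n` -/
lemma vanishing_of_bij (K : DerivedCategory (ModSite.Mod O)) (Y : C) (r : O.obj.obj (op Y))
    (h : ∀ m : ℤ, Bij (((DerivedCategory.singleFunctor (ModSite.Mod O) 0).map
      (tel (tG O Y r)))⟦m⟧') K) (n : ℤ) :
    Subsingleton (SiteCmp.inD O
      ((ModSite.extZero O Y).obj (DerComp.awayOver O Y r)) ⟶ K⟦n⟧) := by
  obtain ⟨p, w, hS⟩ := exists_ses O Y r
  refine subsingleton_of_bij hS.singleTriangle hS.singleTriangle_distinguished K (fun k => ?_) n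
  show Bij ((DerivedCategory.singleFunctor (ModSite.Mod O) 0).map (tel (tG O Y r))) (K⟦k⟧)
  exact (bij_adj (shiftEquiv (DerivedCategory (ModSite.Mod O)) k).symm.toAdjunction _ K).2 (h (-k))

/-- vanishing of `Hom(j_{U!} O_{U,f}, K[n])` for all `n` is local on `U` -/
theorem locality (K : DerivedCategory (ModSite.Mod O)) (W : C) (f : O.obj.obj (op W))
    (R : Sieve W) (hR : R ∈ J W)
    (h : ∀ ⦃Y : C⦄ (g : Y ⟶ W), R g → ∀ n : ℤ, Subsingleton (SiteCmp.inD O
      ((ModSite.extZero O Y).obj (DerComp.awayOver O Y ((O.obj.map g.op).hom f))) ⟶ K⟦n⟧))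
    (n : ℤ) : Subsingleton (SiteCmp.inD O
      ((ModSite.extZero O W).obj (DerComp.awayOver O W f)) ⟶ K⟦n⟧) := by
  obtain ⟨s, hs⟩ : ∃ s : DerComp.GSec (O.over W),
      ∀ z : Over W, s.1 z = (O.obj.map z.hom.op).hom f :=
    ⟨DerComp.GSec.ofSect O W f, fun z => rfl⟩
  have hloc : ∀ y : Over W, ∃ S ∈ (J.over W) y, ∀ ⦃z : Over W⦄ (g : z ⟶ y), S g → ∀ m : ℤ,
      Bij (((DerivedCategory.singleFunctor (ModSite.Mod (O.over W)) 0).map
        (tel (DerComp.smulEnd s (ModSite.freeOn (O.over W) z))))⟦m⟧')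
        ((ModSite.restr O W).mapDerivedCategory.obj K) := by
    intro y
    refine ⟨(Sieve.overEquiv y).symm (R.pullback y.hom),
      J.overEquiv_symm_mem_over y _ (J.pullback_stable y.hom hR), ?_⟩
    intro z g hg m
    have hRz : R z.hom := by
      have h0 : R (g.left ≫ y.hom) := hg
      rwa [Over.w g] at h0
    have h2 := bij_of_vanishing O K z.left ((O.obj.map z.hom.op).hom f) (h z.hom hRz) m
    have h3 := (bij_over_iff O W K z ((O.obj.map z.hom.op).hom f) m).2 h2
    have h4 : tG (O.over W) z ((O.obj.map z.hom.op).hom f) =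
        DerComp.smulEnd s (ModSite.freeOn (O.over W) z) :=
      (congrArg (fun r => tG (O.over W) z r) (hs z)).symm.trans (tG_eq_smulEnd (O.over W) s z)
    rw [h4] at h3
    exact h3
  have hglob := local_global (O.over W) s ((ModSite.restr O W).mapDerivedCategory.obj K) hloc
    (Over.mk (𝟙 W))
  have hr : (O.obj.map (Over.mk (𝟙 W)).hom.op).hom f = f := by
    show (O.obj.map (𝟙 W).op).hom f = f
    rw [op_id, O.obj.map_id]
    rfl
  have h5 : tG (O.over W) (Over.mk (𝟙 W)) f =
      DerComp.smulEnd s (ModSite.freeOn (O.over W) (Over.mk (𝟙 W))) :=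
    (congrArg (fun r => tG (O.over W) (Over.mk (𝟙 W)) r)
      ((hs (Over.mk (𝟙 W))).trans hr)).symm.trans (tG_eq_smulEnd (O.over W) s (Over.mk (𝟙 W)))
  refine vanishing_of_bij O K W f (fun m => ?_) n
  have h6 := hglob m
  rw [← h5] at h6
  exact (bij_over_iff O W K (Over.mk (𝟙 W)) f m).1 h6

end Groth.Agent.Lib.Helper6.DCLoc
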