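import Mathlib
import Groth.Prelude.Def_DerComp
import Groth.Agent.Lib.Helper6.DCLoc.Main
import Groth.Agent.Lib.Helper5.DMod.DCIdeal
import Groth.Agent.Lib.Helper3.QcSum4
import Groth.Agent.Lib.Helper4.QSLocal2

/-!
# The sheaf of ideals of sections `f` with `T(K|_U, f) = 0` (helper6)

For `K ∈ D(O)` the sections `f ∈ O(U)` such that `Hom(j_{V!} O_{V,f|V}, K[n]) = 0` for all `V → U`
and all `n` form a sheaf of ideals.  The ideal property comes from helper5's `DCIdeal` applied to the
`O(V)`-modules `Hom(j_{V!}O_V[m], K)`; locality is `locality`.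
-/

set_option backward.isDefEq.respectTransparency.types false
set_option autoImplicit false
set_option linter.unusedSectionVars false
set_option linter.unusedVariables false
set_option linter.style.haveILetI false
universe u
open CategoryTheory CategoryTheory.Limits CategoryTheory.Pretriangulated Opposite
attribute [local instance] HasDerivedCategory.standard

namespace Groth.Agent.Lib.Helper6.DCLoc

open Groth.Agent.Lib.Helper5.FreeOn Groth.Agent.Lib.Helper6.DCPush

variable {C : Type u} [SmallCategory C] {J : GrothendieckTopology C} (O : Sheaf J CommRingCat.{u})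
  (V : C)

/-- the tautological section of `j_{V!}O_V` over `V` -/
noncomputable abbrev uV : (ModSite.freeOn O V).val.obj (op V) :=
  freeOnHomEquiv O V (ModSite.freeOn O V) (𝟙 _)

lemma fhe_tG (r : O.obj.obj (op V)) :
    freeOnHomEquiv O V _ (tG O V r) = (r : (ModSite.ringSh O).obj.obj (op V)) • uV O V := by
  have h := freeOnHomEquiv_tG O V r _ (𝟙 (ModSite.freeOn O V))
  rw [Category.comp_id] at h
  exact h

lemma tG_one : tG O V 1 = 𝟙 _ := by
  apply (freeOnHomEquiv O V _).injective
  rw [fhe_tG]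
  exact one_smul ((ModSite.ringSh O).obj.obj (op V)) _

lemma tG_mul (r r' : O.obj.obj (op V)) : tG O V (r * r') = tG O V r ≫ tG O V r' := by
  apply (freeOnHomEquiv O V _).injective
  rw [freeOnHomEquiv_tG, fhe_tG, fhe_tG]
  exact mul_smul (r : (ModSite.ringSh O).obj.obj (op V))
    (r' : (ModSite.ringSh O).obj.obj (op V)) _

lemma tG_add (r r' : O.obj.obj (op V)) : tG O V (r + r') = tG O V r + tG O V r' := by
  apply (freeOnHomEquiv O V _).injective
  rw [Groth.Agent.Helper3.QcSum.freeOnHomEquiv_add, fhe_tG, fhe_tG, fhe_tG]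
  exact add_smul (r : (ModSite.ringSh O).obj.obj (op V))
    (r' : (ModSite.ringSh O).obj.obj (op V)) _

lemma tG_zero : tG O V 0 = 0 := by
  apply (freeOnHomEquiv O V _).injective
  rw [fhe_tG, Groth.Agent.Lib.Helper4.QSLocal2.freeOnHomEquiv_zero]
  exact zero_smul ((ModSite.ringSh O).obj.obj (op V)) _

/-- `Hom(j_{V!}O_V[m], L)` as a module over `O(V)` -/
noncomputable def homModule (L : DerivedCategory (ModSite.Mod O)) (m : ℤ) :
    Module (O.obj.obj (op V)) ((SiteCmp.inD O (ModSite.freeOn O V))⟦m⟧ ⟶ L) where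
  smul r x := ((DerivedCategory.singleFunctor (ModSite.Mod O) 0).map (tG O V r))⟦m⟧' ≫ x
  one_smul x := by
    show ((DerivedCategory.singleFunctor (ModSite.Mod O) 0).map (tG O V 1))⟦m⟧' ≫ x = x
    rw [tG_one, CategoryTheory.Functor.map_id, CategoryTheory.Functor.map_id, Category.id_comp]
  mul_smul r r' x := by
    show ((DerivedCategory.singleFunctor (ModSite.Mod O) 0).map (tG O V (r * r')))⟦m⟧' ≫ x =
      ((DerivedCategory.singleFunctor (ModSite.Mod O) 0).map (tG O V r))⟦m⟧' ≫
        ((DerivedCategory.singleFunctor (ModSite.Mod O) 0).map (tG O V r'))⟦m⟧' ≫ x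
    rw [tG_mul, Functor.map_comp, Functor.map_comp, Category.assoc]
  smul_zero r := comp_zero
  smul_add r x y := Preadditive.comp_add _ _ _ _ _ _
  add_smul r r' x := by
    show ((DerivedCategory.singleFunctor (ModSite.Mod O) 0).map (tG O V (r + r')))⟦m⟧' ≫ x =
      ((DerivedCategory.singleFunctor (ModSite.Mod O) 0).map (tG O V r))⟦m⟧' ≫ x +
        ((DerivedCategory.singleFunctor (ModSite.Mod O) 0).map (tG O V r'))⟦m⟧' ≫ x
    rw [tG_add, Functor.map_add, Functor.map_add, Preadditive.add_comp]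
  zero_smul x := by
    show ((DerivedCategory.singleFunctor (ModSite.Mod O) 0).map (tG O V 0))⟦m⟧' ≫ x = 0
    rw [tG_zero, Functor.map_zero, Functor.map_zero, zero_comp]

/-- derived `r`-completeness of `Hom(j_{V!}O_V[m], L)` is the telescope condition -/
lemma dc_iff_bij (L : DerivedCategory (ModSite.Mod O)) (m : ℤ) (r : O.obj.obj (op V)) :
    @Helper5.DMod.DC (O.obj.obj (op V)) _ r ((SiteCmp.inD O (ModSite.freeOn O V))⟦m⟧ ⟶ L) _
      (homModule O V L m) ↔
    Bij (((DerivedCategory.singleFunctor (ModSite.Mod O) 0).map (tel (tG O V r)))⟦m⟧') L := by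
  obtain ⟨hC⟩ := nonempty_isColimit_single_sigma (A := ModSite.Mod O) (ModSite.freeOn O V)
  have ha : ∀ i : ℕ,
      (DerivedCategory.singleFunctor (ModSite.Mod O) 0).map
          (Sigma.ι (fun _ : ℕ => ModSite.freeOn O V) i) ≫
        (DerivedCategory.singleFunctor (ModSite.Mod O) 0).map (tel (tG O V r)) =
      (DerivedCategory.singleFunctor (ModSite.Mod O) 0).map
          (Sigma.ι (fun _ : ℕ => ModSite.freeOn O V) i) -
        (DerivedCategory.singleFunctor (ModSite.Mod O) 0).map (tG O V r) ≫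
          (DerivedCategory.singleFunctor (ModSite.Mod O) 0).map
            (Sigma.ι (fun _ : ℕ => ModSite.freeOn O V) (i + 1)) := by
    intro i
    rw [← Functor.map_comp, ι_tel, Functor.map_sub, Functor.map_comp]
  have h1 := bij_shift_iff_psi
    (fun j => (DerivedCategory.singleFunctor (ModSite.Mod O) 0).map
      (Sigma.ι (fun _ : ℕ => ModSite.freeOn O V) j)) hC
    ((DerivedCategory.singleFunctor (ModSite.Mod O) 0).map (tG O V r))
    ((DerivedCategory.singleFunctor (ModSite.Mod O) 0).map (tel (tG O V r))) ha m L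
  rw [h1]
  exact Iff.rfl

/-- the ideal of sections `r ∈ O(V)` satisfying the telescope condition for `K` -/
noncomputable def telIdeal (K : DerivedCategory (ModSite.Mod O)) : Ideal (O.obj.obj (op V)) :=
  ⨅ m : ℤ, @Helper5.DMod.DCIdeal (O.obj.obj (op V)) _
    ((SiteCmp.inD O (ModSite.freeOn O V))⟦m⟧ ⟶ K) _ (homModule O V K m)

lemma mem_telIdeal (K : DerivedCategory (ModSite.Mod O)) (r : O.obj.obj (op V)) :
    r ∈ telIdeal O V K ↔ ∀ m : ℤ,
      Bij (((DerivedCategory.singleFunctor (ModSite.Mod O) 0).map (tel (tG O V r)))⟦m⟧') K := by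
  unfold telIdeal
  rw [Ideal.mem_iInf]
  exact forall_congr' (fun m => dc_iff_bij O V K m r)

lemma vanishing_iff_mem (K : DerivedCategory (ModSite.Mod O)) (r : O.obj.obj (op V)) :
    (∀ n : ℤ, Subsingleton (SiteCmp.inD O
      ((ModSite.extZero O V).obj (DerComp.awayOver O V r)) ⟶ K⟦n⟧)) ↔ r ∈ telIdeal O V K := by
  rw [mem_telIdeal]
  exact ⟨fun h m => bij_of_vanishing O K V r h m, fun h n => vanishing_of_bij O K V r h n⟩

variable (K : DerivedCategory (ModSite.Mod O))

/-- the ideal of `O(U)` of sections all of whose restrictions satisfy the vanishing condition -/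
noncomputable def idealAt (U : C) : Ideal (O.obj.obj (op U)) :=
  ⨅ (V : C), ⨅ (g : V ⟶ U), Ideal.comap (O.obj.map g.op).hom (telIdeal O V K)

lemma mem_idealAt (U : C) (f : O.obj.obj (op U)) :
    f ∈ idealAt O K U ↔ ∀ (V : C) (g : V ⟶ U), (O.obj.map g.op).hom f ∈ telIdeal O V K := by
  unfold idealAt
  simp only [Ideal.mem_iInf, Ideal.mem_comap]

lemma map_map {U V V' : C} (g : V ⟶ U) (g' : V' ⟶ V) (f : O.obj.obj (op U)) :
    (O.obj.map g'.op).hom ((O.obj.map g.op).hom f) = (O.obj.map (g' ≫ g).op).hom f := by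
  rw [op_comp, O.obj.map_comp]
  rfl

lemma map_id' (U : C) (f : O.obj.obj (op U)) : (O.obj.map (𝟙 U).op).hom f = f := by
  rw [op_id, O.obj.map_id]
  rfl

/-- the sheaf of ideals of sections `f` with `T(K|_U, f) = 0` -/
noncomputable def vanishIdealSh : DerComp.IdealSh O where
  ideal U := idealAt O K U
  map_mem {U V} g {f} hf := by
    rw [mem_idealAt] at hf ⊢
    intro V' g'
    rw [map_map]
    exact hf V' (g' ≫ g)
  glue {U f} S hS h := by
    rw [mem_idealAt]
    intro W g'
    rw [← vanishing_iff_mem]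
    intro n
    refine locality O K W ((O.obj.map g'.op).hom f) (S.pullback g') (J.pullback_stable g' hS)
      (fun Y g'' hg'' n => ?_) n
    have h1 := h (g'' ≫ g') hg''
    rw [mem_idealAt] at h1
    have h2 := h1 Y (𝟙 Y)
    rw [map_id', ← map_map] at h2
    exact (vanishing_iff_mem O Y K _).2 h2 n

lemma mem_vanishIdealSh (U : C) (f : O.obj.obj (op U)) :
    f ∈ (vanishIdealSh O K).ideal U ↔ ∀ (V : C) (g : V ⟶ U) (n : ℤ),
      Subsingleton (SiteCmp.inD O ((ModSite.extZero O V).obj
        (DerComp.awayOver O V ((O.obj.map g.op).hom f))) ⟶ K⟦n⟧) := by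
  show f ∈ idealAt O K U ↔ _
  rw [mem_idealAt]
  exact forall_congr' (fun V => forall_congr' (fun g => (vanishing_iff_mem O V K _).symm))

end Groth.Agent.Lib.Helper6.DCLoc
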