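import Mathlib
import Groth.Prelude.Def_DerComp
import Groth.Agent.Lib.Helper6.DCPush.Bij
import Groth.Agent.Lib.Helper6.RlimPush.Adj
import Groth.Agent.Lib.Helper3.KInjDer
import Groth.Agent.Lib.Helper3.KInjD
import Groth.Agent.Lib.Helper3.DerAdj
import Groth.Agent.Lib.Helper3.ModGroth
import Groth.Agent.S13482

/-!
# Derived completion commutes with restriction to an object of the site (helper6)

* `bij_unit_of_reflection`, `isIso_homEquiv_symm_of_bij`: formal facts on reflective subcategories.
* `jOver O U : RMor (O.over U) O`: the localisation morphism `j : (C/U, O_U) → (C, O)` of ringed sites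
  (for a site with binary products), whose direct image is right adjoint to restriction.
* `restrRpushAdj`: the derived adjunction `(-)|_U ⊣ Rj_*`.
* `isIso_completion_restr`: the canonical map `(F|_U)^ ⟶ (F^)|_U` is an isomorphism as soon as the
  target is derived complete.
-/

set_option backward.isDefEq.respectTransparency.types false
set_option synthInstance.maxHeartbeats 400000
set_option autoImplicit false
set_option linter.unusedSectionVars false
set_option linter.unusedVariables false
set_option linter.style.haveILetI false
universe u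
open CategoryTheory CategoryTheory.Limits Opposite
attribute [local instance] HasDerivedCategory.standard

namespace Groth.Agent.Lib.Helper6.DCLoc

open Groth.Agent.Lib.Helper6.DCPush Groth.Agent.Lib.Helper6.RlimPush

section Formal

variable {𝒯 : Type*} [Category 𝒯] (P : ObjectProperty 𝒯) {c : 𝒯 ⥤ P.FullSubcategory}
  (adjc : c ⊣ P.ι)

include adjc in
/-- the unit of a reflection induces a bijection on maps to objects of the subcategory -/
lemma bij_unit_of_reflection (F L : 𝒯) (hL : P L) :
    Bij (A := F) (B := (c.obj F).obj) (adjc.unit.app F) L := by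
  constructor
  · intro x₁ x₂ hx
    have hx' : adjc.unit.app F ≫ x₁ = adjc.unit.app F ≫ x₂ := hx
    have e1 : adjc.homEquiv F ⟨L, hL⟩ (ObjectProperty.homMk x₁) =
        adjc.homEquiv F ⟨L, hL⟩ (ObjectProperty.homMk x₂) := by
      rw [Adjunction.homEquiv_unit, Adjunction.homEquiv_unit]
      exact hx'
    have e2 := (adjc.homEquiv F ⟨L, hL⟩).injective e1
    exact congrArg (fun t => t.hom) e2
  · intro y
    refine ⟨((adjc.homEquiv F ⟨L, hL⟩).symm y).hom, ?_⟩
    show adjc.unit.app F ≫ P.ι.map ((adjc.homEquiv F ⟨L, hL⟩).symm y) = y
    have e := adjc.homEquiv_unit (X := F) (Y := ⟨L, hL⟩) (f := (adjc.homEquiv F ⟨L, hL⟩).symm y)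
    rw [Equiv.apply_symm_apply] at e
    exact e.symm

include adjc in
/-- a map to an object of a reflective subcategory which induces bijections on maps to all objects
of the subcategory exhibits its target as the reflection of its source -/
theorem isIso_homEquiv_symm_of_bij (G : 𝒯) (T : P.FullSubcategory) (a : G ⟶ T.obj)
    (ha : ∀ N : 𝒯, P N → Bij a N) : IsIso ((adjc.homEquiv G T).symm a) := by
  have key : ∀ (N : P.FullSubcategory) (x : T ⟶ N),
      adjc.homEquiv G N ((adjc.homEquiv G T).symm a ≫ x) = a ≫ x.hom := by
    intro N x
    rw [Adjunction.homEquiv_naturality_right, Equiv.apply_symm_apply]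
    rfl
  apply isIso_of_coyoneda_map_bijective
  intro N
  constructor
  · intro x₁ x₂ hx
    have hx' : (adjc.homEquiv G T).symm a ≫ x₁ = (adjc.homEquiv G T).symm a ≫ x₂ := hx
    have h1 : a ≫ x₁.hom = a ≫ x₂.hom := by rw [← key, ← key, hx']
    have h2 := (ha N.obj N.property).1 h1
    exact ObjectProperty.hom_ext _ h2
  · intro y
    obtain ⟨x', hx'⟩ := (ha N.obj N.property).2 (adjc.homEquiv G N y)
    refine ⟨ObjectProperty.homMk x', ?_⟩
    apply (adjc.homEquiv G N).injective
    show adjc.homEquiv G N ((adjc.homEquiv G T).symm a ≫ ObjectProperty.homMk x') = _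
    rw [key]
    exact hx'

end Formal

section Open

variable {C : Type u} [SmallCategory C] [HasBinaryProducts C] {J : GrothendieckTopology C}
  (O : Sheaf J CommRingCat.{u}) (U : C)

set_option backward.defeqAttrib.useBackward true in
/-- the structure map `O ⟶ j_* (O|_U)`: over `V` it is the restriction `O(V) ⟶ O(U × V)` -/
noncomputable def sharpOver :
    O ⟶ ((Over.star U).sheafPushforwardContinuous CommRingCat.{u} J (J.over U)).obj (O.over U) :=
  ⟨{ app := fun V => O.obj.map (Limits.prod.snd (X := U) (Y := V.unop)).op
     naturality := fun V W f => by simp [← Functor.map_comp, ← op_comp]; rfl }⟩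

/-- the localisation morphism of ringed sites `j : (C/U, O_U) → (C, O)` -/
noncomputable def jOver : ModSite.RMor (O.over U) O :=
  ModSite.RMor.ofFlat (Over.star U) (sharpOver O U)

lemma jOver_sharpR :
    (jOver O U).sharpR = SheafOfModules.pushforwardOver (R := ModSite.ringSh O) U := rfl

/-- restriction to `U` is left adjoint to `j_*` -/
noncomputable def restrPushAdj : ModSite.restr O U ⊣ (jOver O U).push :=
  SheafOfModules.overPushforwardOverAdj (R := ModSite.ringSh O) U

instance hasRpushD_jOver : SiteCmp.HasRpushD (jOver O U) :=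
  Groth.Agent.Helper3.KInjDer.hasRightDerivedFunctor _

lemma rmaps_jOver (I : DerComp.IdealSh O) :
    DerComp.RMapsIdealInto (jOver O U) I (I.over U) := by
  intro V g hg
  exact I.map_mem (Limits.prod.snd (X := U) (Y := V)) hg

variable [(ModSite.restr O U).Additive] [PreservesFiniteLimits (ModSite.restr O U)]
  [PreservesFiniteColimits (ModSite.restr O U)]

/-- the derived adjunction `(-)|_U ⊣ Rj_*` -/
noncomputable def restrRpushAdj :
    (ModSite.restr O U).mapDerivedCategory ⊣ SiteCmp.RpushD (jOver O U) :=
  (Groth.Agent.Helper3.DerAdj.nonempty_adjunction_h (restrPushAdj O U)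
    (fun M => by
      obtain ⟨I, f, hI, hf, -, -⟩ := Groth.Agent.Helper3.KInjD.exists_kInjective_resolution M
      exact ⟨I, f, hI, hf⟩)
    (SiteCmp.RpushD (jOver O U)) (rpushUnit (jOver O U))).some

/-- derived completion commutes with restriction to `U`, as soon as the restriction of the
completion is derived complete -/
theorem isIso_completion_restr (I : DerComp.IdealSh O) [DerComp.HasDerCompletion O I]
    [DerComp.HasDerCompletion (O.over U) (I.over U)] (F : DerivedCategory (ModSite.Mod O))
    (h : DerComp.IsDerComp (O.over U) (I.over U)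
      ((ModSite.restr O U).mapDerivedCategory.obj ((DerComp.derCompletion O I).obj F).obj)) :
    IsIso (((DerComp.derCompletionAdj (O.over U) (I.over U)).homEquiv
      ((ModSite.restr O U).mapDerivedCategory.obj F)
      ⟨(ModSite.restr O U).mapDerivedCategory.obj ((DerComp.derCompletion O I).obj F).obj, h⟩).symm
      ((ModSite.restr O U).mapDerivedCategory.map (DerComp.toDerCompletion I F))) := by
  refine isIso_homEquiv_symm_of_bij (DerComp.IsDerComp (O.over U) (I.over U))
    (DerComp.derCompletionAdj (O.over U) (I.over U)) _ _ _ (fun N hN => ?_)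
  refine (bij_adj (restrRpushAdj O U) (DerComp.toDerCompletion I F) N).1 ?_
  exact bij_unit_of_reflection (DerComp.IsDerComp O I) (DerComp.derCompletionAdj O I) F _
    (Groth.Agent.S13482.result (jOver O U) I (I.over U) (rmaps_jOver O U I) N hN)

end Open

end Groth.Agent.Lib.Helper6.DCLoc
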