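import Mathlib
import Groth.Prelude.Def_DerComp
import Groth.Agent.Lib.Helper6.DCPush.Bij
import Groth.Agent.Lib.Helper6.DCPush.Tel
import Groth.Agent.Lib.Helper6.DCPush.Pull
import Groth.Agent.Lib.Helper6.RlimPush.Adj
import Groth.Agent.Lib.Helper6.DCLoc.Main
import Groth.Agent.Lib.Helper6.DCLoc.Ideal
import Groth.Agent.Lib.Helper3.KInjDer
import Groth.Agent.Lib.Helper5.KProj.DerAdj

/-!
# Derived completeness and restriction of scalars (helper6)

* `bij_rpushD_iff`: the telescope condition for `Rf_* M` at `(V, g)` is the telescope condition for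
  `M` at `(f⁻¹V, f♯g)` (the reversible form of the argument of `S13482`).
* `rmorOfHom φ`: the morphism of ringed sites `(C, O') → (C, O)` of a map of sheaves of rings
  `φ : O ⟶ O'` on one site; its direct image is restriction of scalars, definitionally.
* `isDerComp_iff_restrictScalars`: `K'` is derived complete for `I O'` iff its restriction of scalars
  is derived complete for `I`.
-/

set_option backward.isDefEq.respectTransparency.types false
set_option synthInstance.maxHeartbeats 400000
set_option autoImplicit false
set_option linter.unusedSectionVars false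
set_option linter.unusedVariables false
set_option linter.style.haveILetI false
universe u
open CategoryTheory CategoryTheory.Limits CategoryTheory.Pretriangulated Opposite
attribute [local instance] HasDerivedCategory.standard

namespace Groth.Agent.Lib.Helper6.DCLoc

open Groth.Agent.Lib.Helper6.DCPush Groth.Agent.Lib.Helper6.RlimPush

section General

variable {C D : Type u} [SmallCategory C] [SmallCategory D] {J : GrothendieckTopology C}
  {K : GrothendieckTopology D} {O_C : Sheaf J CommRingCat.{u}} {O_D : Sheaf K CommRingCat.{u}}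
  (f : ModSite.RMor O_C O_D) [SiteCmp.HasRpushD f]

lemma bij_target_iso_iff {𝒯 : Type*} [Category 𝒯] {A B : 𝒯} (a : A ⟶ B) {X X' : 𝒯} (e : X ≅ X') :
    Bij a X ↔ Bij a X' :=
  ⟨bij_target_iso a e, bij_target_iso a e.symm⟩

/-- the telescope condition for `Rf_* M` at `(V, g)` is the telescope condition for `M` at
`(f⁻¹ V, f♯ g)` -/
theorem bij_rpushD_iff (M : DerivedCategory (ModSite.Mod O_C)) (V : D) (g : O_D.obj.obj (op V))
    (k : ℤ) :
    Bij ((DerivedCategory.singleFunctor (ModSite.Mod O_D) 0).map (tel (tG O_D V g)))
      (((SiteCmp.RpushD f).obj M)⟦k⟧) ↔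
    Bij ((DerivedCategory.singleFunctor (ModSite.Mod O_C) 0).map
      (tel (tG O_C (f.fn.obj V) (sharpSect f V g)))) (M⟦k⟧) := by
  have hfl := isFlat_sigma_freeOn O_D V
  haveI hiso : IsIso ((lpullCounit f).app
      ((HomotopyCategory.quotient (ModSite.Mod O_D) (ComplexShape.up ℤ)).obj
        (((CochainComplex.singleFunctor (ModSite.Mod O_D) 0).obj
          (∐ fun _ : ℕ => ModSite.freeOn O_D V))⟦-k⟧))) :=
    Groth.Agent.Lib.Helper5.KProj.DerHo.isIso_counit_app
      (adaptedCell (K := K) f) (Lpull f) (lpullCounit f) _
      (cell_single_shift O_D _ hfl (-k))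
  have s1 := bij_adj (shiftEquiv (DerivedCategory (ModSite.Mod O_D)) k).symm.toAdjunction
    ((DerivedCategory.singleFunctor (ModSite.Mod O_D) 0).map (tel (tG O_D V g)))
    ((SiteCmp.RpushD f).obj M)
  have s2 := bij_adj (lpullRpushAdj f)
    (((DerivedCategory.singleFunctor (ModSite.Mod O_D) 0).map (tel (tG O_D V g)))⟦-k⟧') M
  have s3 := bij_LG_single f.pull (Lpull f) (lpullCounit f) (tel (tG O_D V g)) (-k) M
  have s4 := bij_map_iso (DerivedCategory.singleFunctor (ModSite.Mod O_C) 0 ⋙
      shiftFunctor (DerivedCategory (ModSite.Mod O_C)) (-k)) _ _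
    (pullTelIso f V) (pullTel_comm f V g) M
  have s5 := bij_adj (shiftEquiv (DerivedCategory (ModSite.Mod O_C)) k).symm.toAdjunction
    ((DerivedCategory.singleFunctor (ModSite.Mod O_C) 0).map
      (tel (tG O_C (f.fn.obj V) (sharpSect f V g)))) M
  exact s1.trans (s2.trans (s3.trans (s4.trans s5.symm)))

end General

section Scalars

variable {C : Type u} [SmallCategory C] {J : GrothendieckTopology C}
  {O O' : Sheaf J CommRingCat.{u}} (φ : O ⟶ O')

/-- the morphism of ringed sites `(C, O') → (C, O)` given by a map of sheaves of rings -/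
noncomputable def rmorOfHom : ModSite.RMor O' O where
  fn := 𝟭 C
  exact := (ModSite.RMor.id O').exact
  sharp := φ

instance hasRpushD_rmorOfHom : SiteCmp.HasRpushD (rmorOfHom φ) :=
  Groth.Agent.Helper3.KInjDer.hasRightDerivedFunctor _

variable [PreservesFiniteLimits (SheafOfModules.restrictScalars.{u}
    ((sheafCompose J (forget₂ CommRingCat.{u} RingCat.{u})).map φ))]
  [PreservesFiniteColimits (SheafOfModules.restrictScalars.{u}
    ((sheafCompose J (forget₂ CommRingCat.{u} RingCat.{u})).map φ))]

/-- `Rf_*` for `f = rmorOfHom φ` is the functor induced by (exact) restriction of scalars -/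
noncomputable def rpushDIso :
    SiteCmp.RpushD (rmorOfHom φ) ≅ (SheafOfModules.restrictScalars.{u}
      ((sheafCompose J (forget₂ CommRingCat.{u} RingCat.{u})).map φ)).mapDerivedCategory := by
  let β' : SiteCmp.pushKh (rmorOfHom φ) ⟶ DerivedCategory.Qh ⋙ (SheafOfModules.restrictScalars.{u}
      ((sheafCompose J (forget₂ CommRingCat.{u} RingCat.{u})).map φ)).mapDerivedCategory :=
    Groth.Agent.Lib.Helper5.KProj.βF (SheafOfModules.restrictScalars.{u}
      ((sheafCompose J (forget₂ CommRingCat.{u} RingCat.{u})).map φ))
  haveI h2 : (SheafOfModules.restrictScalars.{u}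
      ((sheafCompose J (forget₂ CommRingCat.{u} RingCat.{u})).map φ)).mapDerivedCategory.IsRightDerivedFunctor
      β' (HomotopyCategory.quasiIso (ModSite.Mod O') (ComplexShape.up ℤ)) :=
    (inferInstance : (SheafOfModules.restrictScalars.{u}
      ((sheafCompose J (forget₂ CommRingCat.{u} RingCat.{u})).map φ)).mapDerivedCategory.IsRightDerivedFunctor
      (Groth.Agent.Lib.Helper5.KProj.βF (SheafOfModules.restrictScalars.{u}
        ((sheafCompose J (forget₂ CommRingCat.{u} RingCat.{u})).map φ)))
      (HomotopyCategory.quasiIso (ModSite.Mod O') (ComplexShape.up ℤ)))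
  exact Functor.rightDerivedUnique (SiteCmp.RpushD (rmorOfHom φ))
    (SheafOfModules.restrictScalars.{u}
      ((sheafCompose J (forget₂ CommRingCat.{u} RingCat.{u})).map φ)).mapDerivedCategory
    (rpushUnit (rmorOfHom φ)) β'
    (HomotopyCategory.quasiIso (ModSite.Mod O') (ComplexShape.up ℤ))

/-- the telescope condition for the restriction of scalars of `K'` at `(V, r)` is the telescope
condition for `K'` at `(V, φ r)` -/
theorem bij_restrictScalars_iff (K' : DerivedCategory (ModSite.Mod O')) (V : C)
    (r : O.obj.obj (op V)) (m : ℤ) :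
    Bij (((DerivedCategory.singleFunctor (ModSite.Mod O) 0).map (tel (tG O V r)))⟦m⟧')
      ((SheafOfModules.restrictScalars.{u}
        ((sheafCompose J (forget₂ CommRingCat.{u} RingCat.{u})).map φ)).mapDerivedCategory.obj K') ↔
    Bij (((DerivedCategory.singleFunctor (ModSite.Mod O') 0).map
      (tel (tG O' V ((φ.hom.app (op V)).hom r))))⟦m⟧') K' := by
  have t1 := bij_adj (shiftEquiv (DerivedCategory (ModSite.Mod O)) m).toAdjunction
    ((DerivedCategory.singleFunctor (ModSite.Mod O) 0).map (tel (tG O V r)))
    ((SheafOfModules.restrictScalars.{u}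
      ((sheafCompose J (forget₂ CommRingCat.{u} RingCat.{u})).map φ)).mapDerivedCategory.obj K')
  have t2 := bij_target_iso_iff
    ((DerivedCategory.singleFunctor (ModSite.Mod O) 0).map (tel (tG O V r)))
    ((shiftFunctor (DerivedCategory (ModSite.Mod O)) (-m)).mapIso ((rpushDIso φ).app K'))
  have t3 := bij_rpushD_iff (rmorOfHom φ) K' V r (-m)
  have t4 := bij_adj (shiftEquiv (DerivedCategory (ModSite.Mod O')) m).toAdjunction
    ((DerivedCategory.singleFunctor (ModSite.Mod O') 0).map
      (tel (tG O' V ((φ.hom.app (op V)).hom r)))) K'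
  exact t1.symm.trans (t2.symm.trans (t3.trans t4))

/-- `K'` is derived complete for `I O'` iff its restriction of scalars is derived complete for
`I` -/
theorem isDerComp_iff_restrictScalars (I : DerComp.IdealSh O) (I' : DerComp.IdealSh O')
    (hI' : DerComp.IsIdealExt φ I I') (K' : DerivedCategory (ModSite.Mod O')) :
    DerComp.IsDerComp O' I' K' ↔ DerComp.IsDerComp O I
      ((SheafOfModules.restrictScalars.{u}
        ((sheafCompose J (forget₂ CommRingCat.{u} RingCat.{u})).map φ)).mapDerivedCategory.obj K') := by
  constructor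
  · intro hK' U r hr n
    refine vanishing_of_bij O _ U r (fun m => ?_) n
    rw [bij_restrictScalars_iff]
    exact bij_of_vanishing O' K' U _ (fun k => hK' U _ (hI'.1 U r hr) k) m
  · intro hK U r' hr' n
    have hmaps : DerComp.MapsIdealInto φ I (vanishIdealSh O' K') := by
      intro U r hr
      rw [mem_vanishIdealSh]
      intro V g n
      have hnat : (O'.obj.map g.op).hom ((φ.hom.app (op U)).hom r) =
          (φ.hom.app (op V)).hom ((O.obj.map g.op).hom r) := by
        have h0 := congrArg (fun t => t.hom r) (φ.hom.naturality g.op)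
        exact h0.symm
      rw [hnat]
      refine vanishing_of_bij O' K' V _ (fun m => ?_) n
      rw [← bij_restrictScalars_iff]
      exact bij_of_vanishing O _ V _ (fun k => hK V _ (I.map_mem g hr) k) m
    have hle := hI'.2 (vanishIdealSh O' K') hmaps
    have h1 := hle U hr'
    rw [mem_vanishIdealSh] at h1
    have h2 := h1 U (𝟙 U) n
    rw [map_id'] at h2
    exact h2

end Scalars

end Groth.Agent.Lib.Helper6.DCLoc
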